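import Mathlib
import Groth.Agent.InjHullLib.Matlis
import Groth.Agent.RegLocal.Completion

/-! Artinian modules over a Noetherian local ring and the hull of the residue field (no completeness). -/

namespace Groth.Agent.MatlisLib

universe u

open InjHull IsLocalRing LocCoh

variable {R : Type u} [CommRing R] [IsLocalRing R] {E : Type u} [AddCommGroup E] [Module R E]
  {f : ResidueField R →ₗ[R] E}

theorem isArtinian_hull [IsNoetherianRing R] (hf : IsInjectiveHull f) : IsArtinian R E := by
  obtain ⟨e⟩ := InjHullLib.exists_endEquiv hf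
  let I : Submodule R E → Ideal (AdicCompletion (maximalIdeal R) R) := fun N =>
    { carrier := {a | ∀ y ∈ N, e.symm a y = 0}
      add_mem' := fun {a b} ha hb y hy => by rw [map_add, LinearMap.add_apply, ha y hy, hb y hy, add_zero]
      zero_mem' := fun y _ => by rw [map_zero, LinearMap.zero_apply]
      smul_mem' := fun c a ha y hy => by
        rw [smul_eq_mul, map_mul, Module.End.mul_apply, ha y hy, map_zero] }
  have hmono : StrictMono fun N : Submodule R E => OrderDual.toDual (I N) := fun N N' hlt => by
    refine OrderDual.toDual_lt_toDual.2 (lt_of_le_not_ge (fun a ha y hy => ha y (hlt.le hy)) fun hle => ?_)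
    refine not_le_of_gt hlt fun x hx => ?_
    by_contra hne
    obtain ⟨h, hh⟩ := InjHullLib.exists_ne_zero hf (M := E ⧸ N) (x := N.mkQ x)
      (fun h0 => hne ((Submodule.Quotient.mk_eq_zero N).1 h0))
    have hmem : e (h ∘ₗ N.mkQ) ∈ I N := fun y hy => by
      rw [AlgEquiv.symm_apply_apply, LinearMap.comp_apply, Submodule.mkQ_apply, (Submodule.Quotient.mk_eq_zero N).2 hy, map_zero]
    have := hle hmem x hx
    rw [AlgEquiv.symm_apply_apply] at this
    exact hh this
  exact ⟨(StrictMono.wellFoundedLT hmono).wf⟩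

theorem isArtinian_dual_of_finite [IsNoetherianRing R] (hf : IsInjectiveHull f) (M : Type u) [AddCommGroup M] [Module R M]
    [Module.Finite R M] : IsArtinian R (M →ₗ[R] E) := by
  obtain ⟨q, π, hπ⟩ := Module.Finite.exists_fin' R M
  have := isArtinian_hull hf
  refine isArtinian_of_injective ((LinearMap.pi fun i : Fin q => LinearMap.applyₗ (π (Pi.single i 1))) :
    (M →ₗ[R] E) →ₗ[R] (Fin q → E)) fun g g' h => ?_
  refine LinearMap.ext fun x => ?_
  obtain ⟨v, rfl⟩ := hπ x
  have hcomp : g ∘ₗ π = g' ∘ₗ π := LinearMap.pi_ext' fun j => LinearMap.ext_ring (congrFun h j)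
  exact LinearMap.congr_fun hcomp v

theorem annihilator_dual (hf : IsInjectiveHull f) (G : Type u) [AddCommGroup G] [Module R G] :
    Module.annihilator R G = Module.annihilator R (G →ₗ[R] E) := by
  refine le_antisymm (fun r hr => ?_) fun r hr => ?_
  · rw [Module.mem_annihilator] at hr ⊢
    exact fun h => LinearMap.ext fun x => by rw [LinearMap.smul_apply, ← map_smul, hr x, map_zero]; rfl
  · rw [Module.mem_annihilator] at hr ⊢
    intro x
    refine InjHullLib.eval_injective hf G (LinearMap.ext fun h => ?_)
    rw [map_zero, LinearMap.zero_apply, LinearMap.applyₗ_apply_apply, map_smul, ← LinearMap.smul_apply, hr h, LinearMap.zero_apply]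

/-- A power torsion module with socle of dimension `n` embeds into `E ^ n`. -/
theorem exists_embedding_pi (hf : IsInjectiveHull f) (M : Type u) [AddCommGroup M] [Module R M]
    (hM : IsPowerTorsion (maximalIdeal R) M) (n : ℕ) [Module.Finite (R ⧸ maximalIdeal R) ↥(torsionBy (maximalIdeal R) M)]
    (hn : Module.finrank (R ⧸ maximalIdeal R) ↥(torsionBy (maximalIdeal R) M) = n) :
    ∃ g : M →ₗ[R] (Fin n → E), Function.Injective g := by
  classical
  letI : Field (R ⧸ maximalIdeal R) := Ideal.Quotient.field _
  let S := torsionBy (maximalIdeal R) M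
  let b := (Module.finBasisOfFinrankEq (R ⧸ maximalIdeal R) S hn).equivFun
  let j : S →ₗ[R] (Fin n → E) := LinearMap.pi fun i =>
    (f : (R ⧸ maximalIdeal R) →ₗ[R] E) ∘ₗ LinearMap.proj i ∘ₗ b.toLinearMap.restrictScalars R
  have hj : Function.Injective j := fun x y h => b.injective (funext fun i => hf.injective (congrFun h i))
  haveI := hf.isInjective
  choose g hg using fun i : Fin n => Module.Injective.out (R := R) S.subtype S.injective_subtype (LinearMap.proj i ∘ₗ j)
  refine ⟨LinearMap.pi g, (injective_iff_map_eq_zero _).mpr fun x hx => ?_⟩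
  obtain ⟨m, hm⟩ := hM x
  induction m generalizing x with
  | zero => simpa using hm 1 (by simp)
  | succ m ih =>
    have hxS : ∀ a ∈ maximalIdeal R, a • x = 0 := fun a ha => ih (a • x) (by rw [map_smul, hx, smul_zero]) fun b hb => by
      rw [smul_smul]; exact hm _ (pow_succ (maximalIdeal R) m ▸ Ideal.mul_mem_mul hb ha)
    have hx' : x ∈ S := (Submodule.mem_torsionBySet_iff _ x).mpr fun a => hxS a.1 a.2
    have : j ⟨x, hx'⟩ = 0 := funext fun i => (hg i ⟨x, hx'⟩).symm.trans (congrFun hx i)
    exact congrArg Subtype.val (hj (this.trans (map_zero j).symm))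

theorem isArtinian_iff [IsNoetherianRing R] (M : Type u) [AddCommGroup M] [Module R M] :
    IsArtinian R M ↔ (IsPowerTorsion (maximalIdeal R) M ∧ Module.Finite (R ⧸ maximalIdeal R) ↥(torsionBy (maximalIdeal R) M)) := by
  obtain ⟨E, _, _, f, hf⟩ := InjHullLib.exists_injectiveHull (R := R) (ResidueField R)
  refine ⟨fun h => ⟨fun x => ?_, ?_⟩, fun ⟨h1, h2⟩ => ?_⟩
  · obtain ⟨q, φ, hφ⟩ := InjHullLib.exists_injective_pi hf M
    have htor : IsPowerTorsion (maximalIdeal R) E := InjHullLib.isPowerTorsion_of_hull (maximalIdeal R) hf.toIsEssentialInj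
    choose e he using fun i : Fin q => htor (φ x i)
    refine ⟨∑ i, e i, fun a ha => hφ ?_⟩
    rw [map_smul, map_zero]
    exact funext fun i => he i a (Ideal.pow_le_pow_right (Finset.single_le_sum (fun _ _ => Nat.zero_le _) (Finset.mem_univ i)) ha)
  · letI : Field (R ⧸ maximalIdeal R) := Ideal.Quotient.field _
    haveI : IsArtinian R ↥(torsionBy (maximalIdeal R) M) := isArtinian_submodule' _
    haveI : IsArtinian (R ⧸ maximalIdeal R) ↥(torsionBy (maximalIdeal R) M) := isArtinian_of_tower R inferInstance
    haveI : IsNoetherian (R ⧸ maximalIdeal R) ↥(torsionBy (maximalIdeal R) M) :=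
      (IsSemiprimaryRing.isNoetherian_iff_isArtinian).mpr inferInstance
    exact ⟨IsNoetherian.noetherian ⊤⟩
  · haveI := h2
    obtain ⟨g, hg⟩ := exists_embedding_pi hf M h1 _ rfl
    haveI := isArtinian_hull hf
    exact isArtinian_of_injective g hg

theorem tensor_completion_bijective [IsNoetherianRing R] (I : Type u) [AddCommGroup I] [Module R I]
    (hI : IsPowerTorsion (maximalIdeal R) I) :
    Function.Bijective (TensorProduct.mk R (AdicCompletion (maximalIdeal R) R) I 1) := by
  haveI := RegLocal.faithfullyFlat_completion R (maximalIdeal R) (maximalIdeal.isMaximal R).ne_top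
  refine ⟨Module.FaithfullyFlat.tensorProduct_mk_injective _, fun t => ?_⟩
  induction t using TensorProduct.induction_on with
  | zero => exact ⟨0, map_zero _⟩
  | add x y hx hy =>
    obtain ⟨a, rfl⟩ := hx
    obtain ⟨b, rfl⟩ := hy
    exact ⟨a + b, map_add _ a b⟩
  | tmul a x =>
    obtain ⟨n, hn⟩ := hI x
    obtain ⟨r, hr⟩ := Submodule.mkQ_surjective _ (AdicCompletion.eval (maximalIdeal R) R n a)
    have hmem : a - AdicCompletion.of (maximalIdeal R) R r ∈ (maximalIdeal R ^ n • ⊤ : Submodule R (AdicCompletion (maximalIdeal R) R)) := by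
      rw [AdicCompletion.pow_smul_top_eq_ker_eval (IsNoetherian.noetherian _), LinearMap.mem_ker, map_sub, AdicCompletion.eval_of, ← hr]
      exact sub_self _
    refine ⟨r • x, ?_⟩
    have h0 : ∀ z ∈ (maximalIdeal R ^ n • ⊤ : Submodule R (AdicCompletion (maximalIdeal R) R)), z ⊗ₜ[R] x = 0 := fun z hz => by
      refine Submodule.smul_induction_on hz (fun c hc y _ => ?_) (fun y z hy hz => by rw [TensorProduct.add_tmul, hy, hz, add_zero])
      rw [TensorProduct.smul_tmul, hn c hc, TensorProduct.tmul_zero]
    have := h0 _ hmem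
    rw [TensorProduct.sub_tmul, sub_eq_zero] at this
    rw [TensorProduct.mk_apply, this, TensorProduct.tmul_smul, TensorProduct.smul_tmul']
    congr 1
    rw [← mul_one r, ← smul_eq_mul, map_smul, smul_eq_mul, mul_one]
    rfl

theorem length_socle_dual [IsNoetherianRing R] (hf : IsInjectiveHull f) (M : Type u) [AddCommGroup M] [Module R M] [Module.Finite R M] :
    Module.length R (torsionBy (maximalIdeal R) (M →ₗ[R] E)) = ((⊤ : Submodule R M).spanFinrank : ℕ∞) := by
  let N : Submodule R M := maximalIdeal R • ⊤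
  let L : ((M ⧸ N) →ₗ[R] E) →ₗ[R] (M →ₗ[R] E) := LinearMap.lcomp R E N.mkQ
  have hL : Function.Injective L := fun a b h => Submodule.linearMap_qext _ h
  have hrange : LinearMap.range L = torsionBy (maximalIdeal R) (M →ₗ[R] E) := by
    ext g
    constructor
    · rintro ⟨h, rfl⟩
      refine (Submodule.mem_torsionBySet_iff _ _).mpr fun ⟨a, ha⟩ => ?_
      refine LinearMap.ext fun x => ?_
      show a • h (Submodule.Quotient.mk x) = 0
      rw [← map_smul, ← Submodule.Quotient.mk_smul, (Submodule.Quotient.mk_eq_zero N).2 (Submodule.smul_mem_smul ha Submodule.mem_top), map_zero]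
    · intro hg
      have hle : N ≤ LinearMap.ker g := Submodule.smul_le.mpr fun a ha x _ => by
        rw [LinearMap.mem_ker, map_smul]
        exact LinearMap.congr_fun ((Submodule.mem_torsionBySet_iff _ g).mp hg ⟨a, ha⟩) x
      exact ⟨N.liftQ g hle, N.liftQ_mkQ g hle⟩
  letI : Field (R ⧸ maximalIdeal R) := Ideal.Quotient.field _
  have hlen : Module.length R (M ⧸ N) = ((⊤ : Submodule R M).spanFinrank : ℕ∞) := by
    rw [Module.length_eq_of_surjective (S := R) (R := R ⧸ maximalIdeal R) (M := M ⧸ N) Ideal.Quotient.mk_surjective,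
      Module.length_eq_finrank]
    congr 1
    rw [spanFinrank_eq_finrank_quotient (⊤ : Submodule R M) Module.Finite.fg_top]
    exact (LinearEquiv.extendScalarsOfSurjective (S := R ⧸ maximalIdeal R) Ideal.Quotient.mk_surjective
      (Submodule.Quotient.equiv (maximalIdeal R • (⊤ : Submodule R (⊤ : Submodule R M))) N Submodule.topEquiv (by
        rw [Submodule.map_smul'', Submodule.map_top, LinearEquiv.range]))).finrank_eq.symm
  have hfl : IsFiniteLength R (M ⧸ N) := Module.length_ne_top_iff.1 (by rw [hlen]; exact ENat.natCast_ne_top _)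
  rw [← hlen, ← InjHullLib.length_dual hf hfl]
  exact ((LinearEquiv.ofInjective L hL).trans (LinearEquiv.ofEq _ _ hrange)).length_eq.symm

end Groth.Agent.MatlisLib
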