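import Groth.Agent.MatlisLib.Change

/-!
Coinduced injective hulls over semilocal finite algebras.
-/

set_option linter.style.haveILetI false

namespace Groth.Agent.MatlisLib

universe u

open InjHull IsLocalRing LocCoh

variable {A B : Type u} [CommRing A] [IsLocalRing A] [CommRing B] [Algebra A B] [Module.Finite A B]

theorem map_maximalIdeal_le_max (n : Ideal B) [n.IsMaximal] : (maximalIdeal A).map (algebraMap A B) ≤ n := by
  haveI : (n.comap (algebraMap A B)).IsMaximal := Ideal.isMaximal_comap_of_isIntegral_of_isMaximal (R := A) n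
  exact Ideal.map_le_iff_le_comap.2 (IsLocalRing.eq_maximalIdeal inferInstance).ge

omit [Module.Finite A B] in
theorem isMaximal_of_map_le [Algebra.IsIntegral A B] (p : Ideal B) [p.IsPrime]
    (h : (maximalIdeal A).map (algebraMap A B) ≤ p) : p.IsMaximal := by
  refine Ideal.isMaximal_of_isIntegral_of_isMaximal_comap (R := A) p ?_
  have : p.comap (algebraMap A B) = maximalIdeal A :=
    ((maximalIdeal.isMaximal A).eq_of_le (Ideal.comap_ne_top _ (Ideal.IsPrime.ne_top ‹_›))
      (Ideal.map_le_iff_le_comap.1 h)).symm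
  exact this ▸ maximalIdeal.isMaximal A

theorem finite_maximalSpectrum_of_finite [IsNoetherianRing A] : Finite (MaximalSpectrum B) := by
  haveI : IsNoetherianRing B := IsNoetherianRing.of_finite A B
  haveI : Finite ((maximalIdeal A).map (algebraMap A B)).minimalPrimes :=
    (Ideal.finite_minimalPrimes_of_isNoetherianRing B _).to_subtype
  refine Finite.of_injective (β := ((maximalIdeal A).map (algebraMap A B)).minimalPrimes)
    (fun n => ⟨n.asIdeal, ⟨⟨n.isMaximal.isPrime, map_maximalIdeal_le_max n.asIdeal⟩, fun q hq hqn => ?_⟩⟩)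
    fun a b h => MaximalSpectrum.ext (congrArg Subtype.val h)
  haveI := hq.1
  exact ((isMaximal_of_map_le q hq.2).eq_of_le n.isMaximal.ne_top hqn).ge

set_option maxHeartbeats 800000

theorem isEssentialInj_of_socle' {R : Type u} [CommRing R] {E : Type u} [AddCommGroup E] [Module R E] {n : Ideal R}
    (hE : IsPowerTorsion n E) {s : (R ⧸ n) →ₗ[R] E} (hs : Function.Injective s)
    (hsoc : ∀ x, (∀ r ∈ n, r • x = 0) → x ∈ LinearMap.range s) : IsEssentialInj s := by
  refine InjHullLib.isEssentialInj_of_forall hs fun x hx => ?_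
  obtain ⟨e, he⟩ := hE x
  induction e generalizing x with
  | zero => exact absurd (by simpa using he 1 (by simp)) hx
  | succ e ih =>
    by_cases h : ∀ a ∈ n, a • x = 0
    · exact ⟨1, by rw [one_smul]; exact hsoc x h, by rwa [one_smul]⟩
    push Not at h
    obtain ⟨a, ha, hax⟩ := h
    obtain ⟨r, hr, hne⟩ := ih (a • x) hax fun b hb => by
      rw [smul_smul]; exact he _ (by rw [pow_succ]; exact Ideal.mul_mem_mul hb ha)
    exact ⟨r * a, by rwa [mul_smul], by rwa [mul_smul]⟩

/-- The torsion submodule of a power of an ideal. -/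
abbrev tors {W : Type u} [AddCommGroup W] [Module B W] (J : Ideal B) : Submodule B W :=
  ⨆ e : ℕ, Submodule.torsionBySet B W ((J ^ e : Ideal B) : Set B)

omit [Module.Finite A B] in
theorem tors_antitone {W : Type u} [AddCommGroup W] [Module B W] {J J' : Ideal B} (h : J ≤ J') :
    (tors J' : Submodule B W) ≤ tors J :=
  iSup_mono fun e => Submodule.torsionBySet_le_torsionBySet_of_subset (Ideal.pow_right_mono h e)

omit [Module.Finite A B] in
theorem disjoint_tors {W : Type u} [AddCommGroup W] [Module B W] {J J' : Ideal B} (h : J ⊔ J' = ⊤) :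
    Disjoint (tors J : Submodule B W) (tors J') := by
  rw [Submodule.disjoint_def]
  intro x hx hx'
  obtain ⟨a, ha⟩ := (InjHullLib.mem_iSup_torsion J x).1 hx
  obtain ⟨b, hb⟩ := (InjHullLib.mem_iSup_torsion J' x).1 hx'
  have h1 : (1 : B) ∈ J ^ a ⊔ J' ^ b := by
    rw [Ideal.pow_sup_pow_eq_top h]
    exact Submodule.mem_top
  obtain ⟨u, hu, v, hv, huv⟩ := Submodule.mem_sup.1 h1
  rw [← one_smul B x, ← huv, add_smul, ha u hu, hb v hv, add_zero]

/-- Over a semilocal finite algebra the coinduced module is the sum of the hulls of its residue fields. -/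
theorem exists_hulls_coinduced [IsNoetherianRing A] {E : Type u} [AddCommGroup E] [Module A E]
    {f : ResidueField A →ₗ[A] E} (hf : IsInjectiveHull f) (W : Type u) [AddCommGroup W] [Module B W] (ev : W →+ E)
    (hev : ∀ (a : A) (w : W), ev (algebraMap A B a • w) = a • ev w)
    (hext : ∀ φ : B →ₗ[A] E, ∃ w : W, ∀ b, ev (b • w) = φ b)
    (huniq : ∀ w : W, (∀ b : B, ev (b • w) = 0) → w = 0) :
    ∃ J : MaximalSpectrum B → Submodule B W, iSupIndep J ∧ iSup J = ⊤ ∧
      ∀ n : MaximalSpectrum B, ∃ g : (B ⧸ n.asIdeal) →ₗ[B] J n, IsInjectiveHull g := by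
  classical
  haveI : IsNoetherianRing B := IsNoetherianRing.of_finite A B
  haveI := finite_maximalSpectrum_of_finite (A := A) (B := B)
  haveI : Fintype (MaximalSpectrum B) := Fintype.ofFinite _
  haveI := hf.isInjective
  haveI hinj : Module.Injective B W := ⟨fun X Y _ _ _ _ i hi g => by
    letI : Module A X := Module.compHom X (algebraMap A B)
    letI : Module A Y := Module.compHom Y (algebraMap A B)
    let iA : X →ₗ[A] Y := { i.toAddHom with map_smul' := fun a x => i.map_smul (algebraMap A B a) x }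
    let gA : X →ₗ[A] E :=
      { toFun := fun x => ev (g x), map_add' := fun x x' => by rw [map_add, map_add],
        map_smul' := fun a x => (congrArg ev (g.map_smul (algebraMap A B a) x)).trans (hev a (g x)) }
    obtain ⟨h, hh⟩ := Module.Injective.out (R := A) iA hi gA
    let φ : Y → (B →ₗ[A] E) := fun y =>
      { toFun := fun b => h (b • y), map_add' := fun b b' => by rw [add_smul, map_add],
        map_smul' := fun a b => by
          rw [Algebra.smul_def, mul_smul]
          exact h.map_smul a (b • y) }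
    choose w hw using fun y => hext (φ y)
    refine ⟨{ toFun := w,
              map_add' := fun y y' => sub_eq_zero.1 (huniq _ fun b => by
                rw [smul_sub, smul_add, map_sub, map_add, hw, hw, hw]
                show h (b • (y + y')) - (h (b • y) + h (b • y')) = 0
                rw [smul_add, map_add, sub_self])
              map_smul' := fun c y => sub_eq_zero.1 (huniq _ fun b => by
                rw [RingHom.id_apply, smul_sub, smul_smul, map_sub, hw, hw]
                show h (b • c • y) - h ((b * c) • y) = 0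
                rw [mul_smul, sub_self]) }, fun x => sub_eq_zero.1 (huniq _ fun b => ?_)⟩
    rw [smul_sub, map_sub, show ((⟨⟨w, _⟩, _⟩ : Y →ₗ[B] W) : Y → W) (i x) = w (i x) from rfl, hw]
    show h (b • i x) - ev (b • g x) = 0
    rw [← map_smul i, ← map_smul g]
    exact sub_eq_zero.2 (hh (b • x))⟩
  let m := (maximalIdeal A).map (algebraMap A B)
  obtain ⟨K, hK⟩ : ∃ K : ℕ, (∏ n : MaximalSpectrum B, n.asIdeal) ^ K ≤ m := by
    refine Ideal.exists_pow_le_of_le_radical_of_fg (fun x hx => ?_) (IsNoetherian.noetherian _)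
    rw [Ideal.radical_eq_sInf, Submodule.mem_sInf]
    rintro q ⟨hmq, hq⟩
    haveI := hq
    exact Ideal.le_of_dvd (Finset.dvd_prod_of_mem _ (Finset.mem_univ (⟨q, isMaximal_of_map_le q hmq⟩ : MaximalSpectrum B))) hx
  have htorA : ∀ x : W, ∃ e, ∀ c ∈ m ^ e, c • x = 0 := fun x => by
    obtain ⟨q, π, hπ⟩ := Module.Finite.exists_fin' A B
    have htor : IsPowerTorsion (maximalIdeal A) E := InjHullLib.isPowerTorsion_of_hull (maximalIdeal A) hf.toIsEssentialInj
    choose e he using fun i : Fin q => htor (ev (π (Pi.single i 1) • x))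
    let φ0 : B →ₗ[A] E :=
      { toFun := fun b => ev (b • x), map_add' := fun b b' => by rw [add_smul, map_add],
        map_smul' := fun a b => by rw [Algebra.smul_def, mul_smul, RingHom.id_apply]; exact hev a _ }
    have hkill : ∀ a ∈ maximalIdeal A ^ (∑ i, e i), ∀ b, a • φ0 b = 0 := fun a ha b => by
      obtain ⟨v, rfl⟩ := hπ b
      have hcomp : (a • φ0) ∘ₗ π = 0 := LinearMap.pi_ext' fun j => LinearMap.ext_ring <|
        he j a (Ideal.pow_le_pow_right (Finset.single_le_sum (fun _ _ => Nat.zero_le _) (Finset.mem_univ j)) ha)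
      exact LinearMap.congr_fun hcomp v
    refine ⟨∑ i, e i, fun c hc => huniq _ fun b => ?_⟩
    rw [← Ideal.map_pow] at hc
    rw [smul_smul]
    have hbc : b * c ∈ (maximalIdeal A ^ (∑ i, e i) • ⊤ : Submodule A B) := by
      rw [Ideal.smul_top_eq_map]; exact Ideal.mul_mem_left _ b hc
    show φ0 (b * c) = 0
    refine Submodule.smul_induction_on hbc (fun a ha d _ => ?_) (fun d d' h h' => by rw [map_add, h, h', add_zero])
    rw [map_smul]; exact hkill a ha d
  let J : MaximalSpectrum B → Submodule B W := fun n => tors n.asIdeal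
  have hcop : ∀ i j : MaximalSpectrum B, i ≠ j → i.asIdeal ⊔ j.asIdeal = ⊤ := fun i j hij =>
    i.isMaximal.coprime_of_ne j.isMaximal fun h => hij (MaximalSpectrum.ext h)
  have htop : iSup J = ⊤ := by
    refine eq_top_iff.2 fun x _ => ?_
    obtain ⟨e, he⟩ := htorA x
    have hx : x ∈ Submodule.torsionBySet B W
        ((⨅ n ∈ (Finset.univ : Finset (MaximalSpectrum B)), n.asIdeal ^ (K * e) : Ideal B) : Set B) := by
      rw [Submodule.mem_torsionBySet_iff]
      rintro ⟨c, hc⟩
      refine he c ?_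
      have hprod : ∏ n : MaximalSpectrum B, n.asIdeal ^ (K * e) =
          ⨅ n ∈ (Finset.univ : Finset (MaximalSpectrum B)), n.asIdeal ^ (K * e) :=
        Ideal.prod_eq_iInf_of_pairwise_isCoprime (fun i _ j _ hij => Ideal.isCoprime_iff_sup_eq.2 (Ideal.pow_sup_pow_eq_top (hcop i j hij)))
      rw [SetLike.mem_coe, ← hprod, Finset.prod_pow, pow_mul] at hc
      exact Ideal.pow_right_mono hK e hc
    rw [← Submodule.iSup_torsionBySet_ideal_eq_torsionBySet_iInf
      (fun i _ j _ hij => Ideal.pow_sup_pow_eq_top (hcop i j hij))] at hx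
    have hle : ∀ n : MaximalSpectrum B,
        Submodule.torsionBySet B W ((n.asIdeal ^ (K * e) : Ideal B) : Set B) ≤ iSup J := fun n => by
      intro z hz
      refine le_iSup J n ((InjHullLib.mem_iSup_torsion n.asIdeal z).2 ⟨K * e, fun r hr => ?_⟩)
      exact (Submodule.mem_torsionBySet_iff _ z).1 hz ⟨r, hr⟩
    exact SetLike.le_def.1 (iSup_le fun n => iSup_le fun _ => hle n) hx
  have hind : iSupIndep J := fun n => by
    refine (disjoint_tors (J := n.asIdeal) (J' := ∏ i ∈ Finset.univ.erase n, i.asIdeal) ?_).mono_right ?_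
    · exact Ideal.sup_prod_eq_top fun i hi => hcop n i (Finset.ne_of_mem_erase hi).symm
    · exact iSup₂_le fun i hi => tors_antitone (Ideal.le_of_dvd
        (Finset.dvd_prod_of_mem _ (Finset.mem_erase.2 ⟨hi, Finset.mem_univ i⟩)))
  refine ⟨J, hind, htop, fun n => ?_⟩
  haveI := n.isMaximal
  haveI := InjHullLib.injective_torsion (R := B) W n.asIdeal
  let q := Ideal.Quotient.mk n.asIdeal
  letI : Field (B ⧸ n.asIdeal) := Ideal.Quotient.field _
  have hkfl : IsFiniteLength A (B ⧸ n.asIdeal) := isFiniteLength_of_isTorsionBySet fun x r => by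
    obtain ⟨x, rfl⟩ := Ideal.Quotient.mk_surjective x
    change q ((r : A) • x) = 0
    rw [Algebra.smul_def]
    exact Ideal.Quotient.eq_zero_iff_mem.2 (Ideal.mul_mem_right _ _ (map_maximalIdeal_le_max _ (Ideal.mem_map_of_mem _ r.2)))
  obtain ⟨ψ, hψ⟩ := InjHullLib.exists_ne_zero hf (x := (1 : B ⧸ n.asIdeal)) one_ne_zero
  let Θ : (B ⧸ n.asIdeal) →ₗ[A] ((B ⧸ n.asIdeal) →ₗ[A] E) := (LinearMap.mul A (B ⧸ n.asIdeal)).compr₂ ψ
  have hΘ : Function.Injective Θ := (injective_iff_map_eq_zero Θ).2 fun c hc => by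
    by_contra hne
    refine hψ ?_
    have := LinearMap.congr_fun hc c⁻¹
    rwa [LinearMap.compr₂_apply, LinearMap.mul_apply', mul_inv_cancel₀ hne] at this
  have hΘs : Function.Surjective Θ :=
    InjHullLib.surjective_of_injective_of_length Θ hΘ hkfl (InjHullLib.length_dual hf hkfl).le
  obtain ⟨w₀, hw₀⟩ := hext (ψ ∘ₗ (Ideal.Quotient.mkₐ A n.asIdeal).toLinearMap)
  have hw₀' : ∀ b c : B, ev (b • c • w₀) = ψ (q c * q b) := fun b c => by
    rw [smul_smul, hw₀, mul_comm b, ← map_mul]; rfl
  have hw₀n : ∀ c ∈ n.asIdeal, c • w₀ = 0 := fun c hc => huniq _ fun b => by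
    rw [hw₀', show q c = 0 from Ideal.Quotient.eq_zero_iff_mem.2 hc, zero_mul, map_zero]
  have hw₀J : w₀ ∈ J n := (InjHullLib.mem_iSup_torsion _ _).2 ⟨1, fun r hr => hw₀n r (by rwa [pow_one] at hr)⟩
  let s : (B ⧸ n.asIdeal) →ₗ[B] J n := Submodule.liftQ n.asIdeal (LinearMap.toSpanSingleton B (J n) ⟨w₀, hw₀J⟩)
    fun c hc => Subtype.ext (hw₀n c hc)
  have hs : Function.Injective s := (injective_iff_map_eq_zero s).2 fun y hy => by
    obtain ⟨c, rfl⟩ := Ideal.Quotient.mk_surjective y
    have hy' : c • w₀ = 0 := congrArg Subtype.val hy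
    refine hΘ ((LinearMap.ext fun z => ?_).trans (map_zero Θ).symm)
    obtain ⟨b, rfl⟩ := Ideal.Quotient.mk_surjective z
    show ψ (q c * q b) = 0
    rw [← hw₀', hy', smul_zero, map_zero]
  have htorJ : IsPowerTorsion n.asIdeal (J n) := fun x => by
    obtain ⟨e, he⟩ := (InjHullLib.mem_iSup_torsion _ _).1 x.2
    exact ⟨e, fun a ha => Subtype.ext (he a ha)⟩
  refine ⟨s, isEssentialInj_of_socle' htorJ hs (fun x hx => ?_), inferInstance⟩
  let φ : (B ⧸ n.asIdeal) →ₗ[A] E :=
    Submodule.liftQ (n.asIdeal.restrictScalars A)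
      { toFun := fun b => ev (b • x.1), map_add' := fun b b' => by rw [add_smul, map_add],
        map_smul' := fun a b => by rw [Algebra.smul_def, mul_smul, RingHom.id_apply]; exact hev a _ }
      (fun b hb => by show ev (b • x.1) = 0; rw [show b • x.1 = 0 from congrArg Subtype.val (hx b hb), map_zero]) ∘ₗ
    (Submodule.Quotient.restrictScalarsEquiv A n.asIdeal).symm.toLinearMap
  have hφ : ∀ b, φ (q b) = ev (b • x.1) := fun b => rfl
  obtain ⟨y, hy⟩ := hΘs φ
  obtain ⟨c, rfl⟩ := Ideal.Quotient.mk_surjective y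
  refine ⟨q c, Subtype.ext (sub_eq_zero.1 (huniq _ fun b => ?_))⟩
  change ev (b • (c • w₀ - x.1)) = 0
  rw [smul_sub, map_sub, hw₀', ← hφ, ← hy]
  exact sub_self _

end Groth.Agent.MatlisLib
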